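import Cfsg.Agent.H265.SuzCent
import Cfsg.Agent.S0003
import Cfsg.Agent.S0205
import Cfsg.Agent.BpSpor.BThreeZero
import Cfsg.Agent.HNType.Simple
import Cfsg.Agent.H478.RadTools_m3
import Cfsg.Agent.Blocks.ClassScalar
import Cfsg.Agent.H411.MThree
import Cfsg.Agent.BpSpor.Row.M
import Cfsg.Agent.H533.T5.SporDefs_m3
import Cfsg.Agent.LThreeCo1.Ranks
import Cfsg.Agent.FastGrp
import Cfsg.Agent.Prune
set_option linter.all false

section
prune_inst 0x7f00000000000000000000000000000000000000000000000000000000000000000000000000000000000000000000000000000000000000000000000000000000000000000000000000000000000000003fffffffffffffffffffffffffffbeffbdffffffff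

-- part: H345/IRowM
section
set_option linter.all false
open scoped Cfsg.Agent.FastGrp

-- part: H345/SuzOdd
section
/-!
# Subgroups of odd order of `Suz` (helper345)

`odd_bound` : a subgroup `T` of odd order of `Suz` satisfies `33 |T| ≤ 54729675` (`= |Suz| / 2 ^ 13`).
-/

set_option autoImplicit false

namespace Cfsg.Agent.H345.SuzOdd

open Subgroup Cfsg Cfsg.Spor

/-- a group of order `r s`, `r ∤ s - 1` : commuting elements of orders `r` and `s` -/
theorem comm_of_card {H : Type*} [Group H] [Finite H] {r s : ℕ} (hr : r.Prime) (hs : s.Prime) (hrs : r < s)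
    (hc : ¬ s ≡ 1 [MOD r]) (hH : Nat.card H = r * s) : ∃ a b : H, orderOf a = r ∧ orderOf b = s ∧ a * b = b * a := by
  have hrF : Fact r.Prime := ⟨hr⟩
  have hsF : Fact s.Prime := ⟨hs⟩
  obtain ⟨a, ha⟩ := exists_prime_orderOf_dvd_card' (G := H) r (by rw [hH]; exact dvd_mul_right _ _)
  obtain ⟨b, hb⟩ := exists_prime_orderOf_dvd_card' (G := H) s (by rw [hH]; exact dvd_mul_left _ _)
  refine ⟨a, b, ha, hb, ?_⟩
  have hai : (zpowers a).index = s := by
    have h1 := (zpowers a).card_mul_index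
    rw [Nat.card_zpowers, ha, hH] at h1
    exact Nat.eq_of_mul_eq_mul_left hr.pos h1
  have hbi : (zpowers b).index = r := by
    have h1 := (zpowers b).card_mul_index
    rw [Nat.card_zpowers, hb, hH, mul_comm] at h1
    exact Nat.eq_of_mul_eq_mul_right hs.pos (by rw [← h1, mul_comm])
  have hap : IsPGroup r ↥(zpowers a) := IsPGroup.of_card (n := 1) (by rw [Nat.card_zpowers, ha, pow_one])
  have hbp : IsPGroup s ↥(zpowers b) := IsPGroup.of_card (n := 1) (by rw [Nat.card_zpowers, hb, pow_one])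
  have han : ¬ r ∣ (zpowers a).index := by
    rw [hai]
    intro h
    exact hrs.ne ((Nat.prime_dvd_prime_iff_eq hr hs).1 h)
  have hbn : ¬ s ∣ (zpowers b).index := by
    rw [hbi]
    intro h
    exact hrs.ne' ((Nat.prime_dvd_prime_iff_eq hs hr).1 h)
  let A : Sylow r H := hap.toSylow han
  let B : Sylow s H := hbp.toSylow hbn
  have hA : (A : Subgroup H) = zpowers a := rfl
  have hB : (B : Subgroup H) = zpowers b := rfl
  have h1 : Nat.card (Sylow r H) = 1 := by
    have h2 : Nat.card (Sylow r H) ∣ s := by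
      have h3 := A.card_dvd_index
      rwa [hA, hai] at h3
    rcases (Nat.dvd_prime hs).1 h2 with h4 | h4
    · exact h4
    · exact absurd (h4 ▸ card_sylow_modEq_one r H) hc
  have h2 : Nat.card (Sylow s H) = 1 := by
    have h2 : Nat.card (Sylow s H) ∣ r := by
      have h3 := B.card_dvd_index
      rwa [hB, hbi] at h3
    rcases (Nat.dvd_prime hr).1 h2 with h4 | h4
    · exact h4
    · exfalso
      have h5 := h4 ▸ card_sylow_modEq_one s H
      have h6 : r % s = 1 % s := h5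
      rw [Nat.mod_eq_of_lt hrs, Nat.mod_eq_of_lt hs.one_lt] at h6
      exact hr.one_lt.ne' h6
  have hs1 : Subsingleton (Sylow r H) := (Nat.card_eq_one_iff_unique.1 h1).1
  have hs2 : Subsingleton (Sylow s H) := (Nat.card_eq_one_iff_unique.1 h2).1
  have n1 : (zpowers a).Normal := hA ▸ Sylow.normal_of_subsingleton A
  have n2 : (zpowers b).Normal := hB ▸ Sylow.normal_of_subsingleton B
  refine (commute_of_normal_of_disjoint _ _ n1 n2 ?_ a b (mem_zpowers a) (mem_zpowers b)).eq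
  refine disjoint_of_coprime_natCard ?_
  rw [Nat.card_zpowers, Nat.card_zpowers, ha, hb]
  exact (Nat.coprime_primes hr hs).2 hrs.ne

theorem false_of_dvd {T : Subgroup Suz} (hT : Group.IsSolvable ↥T) {r s : ℕ} (hr : r.Prime) (hs : s.Prime) (hrs : r < s)
    (hc : ¬ s ≡ 1 [MOD r]) {m : ℕ} (hm : Nat.card ↥T = (r * s) * m) (hr2 : ¬ r ∣ m) (hs2 : ¬ s ∣ m)
    (hno : ∀ v w : Suz, orderOf v = r → orderOf w = s → w * v = v * w → False) : False := by
  have hfin : Finite Suz := Cfsg.Agent.H265.SuzEven.finSuz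
  obtain ⟨H, hH⟩ := Cfsg.Agent.S0003.result (G := ↥T) (r * s) m hm
    (Nat.Coprime.mul_left ((Nat.Prime.coprime_iff_not_dvd hr).2 hr2) ((Nat.Prime.coprime_iff_not_dvd hs).2 hs2))
  obtain ⟨a, b, ha, hb, hab⟩ := comm_of_card hr hs hrs hc hH
  refine hno ((a : ↥T) : Suz) ((b : ↥T) : Suz) ?_ ?_ ?_
  · rw [Subgroup.orderOf_coe, Subgroup.orderOf_coe, ha]
  · rw [Subgroup.orderOf_coe, Subgroup.orderOf_coe, hb]
  · exact (congrArg (fun h : ↥H => (((h : ↥T)) : Suz)) hab).symm

/-- **subgroups of odd order of `Suz`** -/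
theorem odd_bound {T : Subgroup Suz} (ho : Odd (Nat.card ↥T)) : 33 * Nat.card ↥T ≤ 54729675 := by
  have hfin : Finite Suz := Cfsg.Agent.H265.SuzEven.finSuz
  have hT : Group.IsSolvable ↥T := Cfsg.Agent.S0205.result ho
  have h1 : Nat.card ↥T ∣ 2 ^ 13 * 54729675 := by
    have h2 := card_subgroup_dvd_card T
    rwa [Cfsg.Agent.SporadicRecognition.SuzOrder.card_Suz] at h2
  have h2 : Nat.card ↥T ∣ 54729675 :=
    (Nat.Coprime.pow_right 13 (Nat.coprime_two_right.2 ho)).dvd_of_dvd_mul_left h1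
  obtain ⟨c, hc⟩ := h2
  by_contra hcon
  have hpos : 0 < Nat.card ↥T := Nat.card_pos
  have hc33 : c < 33 := by
    by_contra h3
    apply hcon
    rw [hc, mul_comm 33]
    exact Nat.mul_le_mul_left _ (by omega)
  set n := Nat.card ↥T with hn
  have key : ∀ r s k : ℕ, r.Prime → s.Prime → r < s → ¬ s ≡ 1 [MOD r] → 54729675 = r * s * k → ¬ r ∣ k → ¬ s ∣ k →
      r ∣ n → s ∣ n → (∀ v w : Suz, orderOf v = r → orderOf w = s → w * v = v * w → False) → False := by
    intro r s k hr hs hrs hmod hk hrk hsk hrn hsn hno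
    have h3 : r * s ∣ n := ((Nat.coprime_primes hr hs).2 hrs.ne).mul_dvd_of_dvd_of_dvd hrn hsn
    obtain ⟨m, hm⟩ := h3
    have h4 : m ∣ k := by
      have h5 : r * s * k = r * s * (m * c) := by rw [← hk, hc, hm]; ring
      have h6 := Nat.eq_of_mul_eq_mul_left (Nat.mul_pos hr.pos hs.pos) h5
      exact ⟨c, h6⟩
    exact false_of_dvd hT hr hs hrs hmod hm (fun h => hrk (h.trans h4)) (fun h => hsk (h.trans h4)) hno
  have h7 : 7 ∣ n ∨ 7 ∣ c := (Nat.Prime.dvd_mul (by norm_num)).1 (hc ▸ (by norm_num))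
  have h11 : 11 ∣ n ∨ 11 ∣ c := (Nat.Prime.dvd_mul (by norm_num)).1 (hc ▸ (by norm_num))
  have h13 : 13 ∣ n ∨ 13 ∣ c := (Nat.Prime.dvd_mul (by norm_num)).1 (hc ▸ (by norm_num))
  have hc0 : 0 < c := by
    rcases Nat.eq_zero_or_pos c with h | h
    · rw [h, mul_zero] at hc; exact absurd hc (by norm_num)
    · exact h
  have k1 : 7 ∣ n → 11 ∣ n → False := fun a b => key 7 11 710775 (by norm_num) (by norm_num) (by norm_num) (by decide)
    (by norm_num) (by norm_num) (by norm_num) a b (fun v w hv hw h => Cfsg.Agent.H265.SuzCent.not_7_11 hv hw h)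
  have k2 : 7 ∣ n → 13 ∣ n → False := fun a b => key 7 13 601425 (by norm_num) (by norm_num) (by norm_num) (by decide)
    (by norm_num) (by norm_num) (by norm_num) a b (fun v w hv hw h => Cfsg.Agent.H265.SuzCent.not_7_13 hv hw h)
  have k3 : 11 ∣ n → 13 ∣ n → False := fun a b => key 11 13 382725 (by norm_num) (by norm_num) (by norm_num) (by decide)
    (by norm_num) (by norm_num) (by norm_num) a b (fun v w hv hw h => Cfsg.Agent.H265.SuzCent.not_11_13 hv hw h)
  rcases h7 with h7 | h7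
  · rcases h11 with h11 | h11
    · exact k1 h7 h11
    · rcases h13 with h13 | h13
      · exact k2 h7 h13
      · omega
  · rcases h11 with h11 | h11
    · rcases h13 with h13 | h13
      · exact k3 h11 h13
      · omega
    · omega

end Cfsg.Agent.H345.SuzOdd
end

-- part: H345/MOrb
section
/-!
# Isolated involutions with quotient `Suz`: elements of order three of the radical (helper345)

`exists_inv` : `D` with the data `Dat φ` (`C_D(z) → Suz`, central kernel of order 6), `x₀` of order 3 in the centre,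
`3 ^ 21 ∤ |D|`: an element `y`, `y ^ 3 = 1`, of the solvable radical of `D` commutes with an involution.
-/

set_option autoImplicit false

namespace Cfsg.Agent.H345.MOrb

open Subgroup Cfsg
open Cfsg.Agent.LThreeBX.Abs (Ker zA)
open Cfsg.Agent.BpSpor.MThree (Dat exists_hom core_le_ker ker_solvable)

universe u v

variable {D : Type u} [Group D] [Finite D] {z : D} {X : Type v} [Group X] {φ : ↥(centralizer ({z} : Set D)) →* X}

omit [Finite D] in
theorem not_solvable (h : Dat φ) : ¬ Group.IsSolvable X := by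
  intro hs
  have hX : IsSimpleGroup X := h.simple
  have hc := h.card
  have hcomm : ∀ a b : X, a * b = b * a := IsSimpleGroup.comm_iff_isSolvable.2 hs
  have hfin : Finite X := Nat.finite_of_card_ne_zero (by rw [hc]; norm_num)
  have hp : (Nat.card X).Prime := by
    let _ : CommGroup X := { (inferInstance : Group X) with mul_comm := hcomm }
    exact IsSimpleGroup.prime_card
  rw [hc] at hp
  norm_num at hp

omit [Finite D] in
theorem map_center (h : Dat φ) {x : D} (hx : ∀ d, d * x = x * d) :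
    φ ⟨x, mem_centralizer_singleton_iff.2 (hx z).symm⟩ = 1 := by
  have hX : IsSimpleGroup X := h.simple
  have hc : center X = ⊥ := by
    rcases (inferInstance : (center X).Normal).eq_bot_or_eq_top with h1 | h1
    · exact h1
    · exfalso
      refine not_solvable h (Group.isSolvable_of_comm fun a b => ?_)
      exact (mem_center_iff.1 (h1 ▸ mem_top b) a)
  rw [← mem_bot, ← hc, mem_center_iff]
  intro y
  obtain ⟨c, rfl⟩ := h.surj y
  rw [← map_mul, ← map_mul]
  congr 1
  exact Subtype.ext (hx c)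

omit [Finite D] in
/-- the elements of the kernel of order dividing `3` -/
theorem mem_zpowers_of_ker (h : Dat φ) (h9 : ¬ 9 ∣ Nat.card ↥φ.ker) {x₀ : D} (hx₀ : orderOf x₀ = 3)
    (hc : ∀ d, d * x₀ = x₀ * d) {c : ↥(centralizer ({z} : Set D))} (hck : φ c = 1) (hc3 : c ^ 3 = 1) :
    (c : D) ∈ zpowers x₀ := by
  let x' : ↥φ.ker := ⟨⟨x₀, mem_centralizer_singleton_iff.2 (hc z).symm⟩, map_center h hc⟩
  let c' : ↥φ.ker := ⟨c, hck⟩
  have hx' : orderOf x' = 3 := by
    rw [← hx₀, ← Subgroup.orderOf_coe, ← Subgroup.orderOf_coe]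
  have hn : (zpowers x').Normal := ⟨fun k hk g => by
    obtain ⟨i, rfl⟩ := hk
    have h1 : g * x' ^ i * g⁻¹ = x' ^ i := by
      have h2 : g * x' ^ i = x' ^ i * g := Subtype.ext (h.ker.cen _ (x' ^ i).2 g)
      rw [h2, mul_inv_cancel_right]
    rw [h1]
    exact zpow_mem (mem_zpowers x') i⟩
  have hcard : Nat.card (↥φ.ker ⧸ zpowers x') * 3 = Nat.card ↥φ.ker := by
    have h1 := card_eq_card_quotient_mul_card_subgroup (zpowers x')
    rw [Nat.card_zpowers, hx'] at h1
    exact h1.symm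
  have h3 : ¬ 3 ∣ Nat.card (↥φ.ker ⧸ zpowers x') := by
    rintro ⟨k, hk⟩
    exact h9 ⟨k, by rw [← hcard, hk]; ring⟩
  have h1 : orderOf (QuotientGroup.mk c' : ↥φ.ker ⧸ zpowers x') ∣ 3 := by
    apply orderOf_dvd_of_pow_eq_one
    rw [← QuotientGroup.mk_pow]
    have h2 : c' ^ 3 = 1 := Subtype.ext hc3
    rw [h2]; rfl
  rcases (Nat.dvd_prime Nat.prime_three).1 h1 with h2 | h2
  · have h4 : c' ∈ zpowers x' := (QuotientGroup.eq_one_iff _).1 (orderOf_eq_one_iff.1 h2)
    obtain ⟨i, hi⟩ := h4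
    refine ⟨i, ?_⟩
    exact congrArg (fun k : ↥φ.ker => ((k : ↥(centralizer ({z} : Set D))) : D)) hi
  · exact absurd (h2 ▸ orderOf_dvd_natCard _) h3

omit [Finite D] in
/-- the elements of odd order of the kernel -/
theorem cube_of_odd (h : Dat φ) {c : ↥(centralizer ({z} : Set D))} (hck : φ c = 1) (ho : Odd (orderOf c)) :
    c ^ 3 = 1 := by
  have h6 := h.ker.six c hck
  have h1 : (c ^ 3) ^ 2 = 1 := by rw [← pow_mul]; exact h6
  have h2 : orderOf (c ^ 3) ∣ 2 := orderOf_dvd_of_pow_eq_one h1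
  have h3 : Odd (orderOf (c ^ 3)) := ho.of_dvd_nat (orderOf_pow_dvd 3)
  rcases (Nat.dvd_prime Nat.prime_two).1 h2 with h4 | h4
  · exact orderOf_eq_one_iff.1 h4
  · rw [h4] at h3
    exact absurd h3 (by decide)

/-- **Elements of order three of the radical commute with an involution.** -/
theorem exists_inv (h : Dat φ) (h9 : ¬ 9 ∣ Nat.card ↥φ.ker) (hD : ¬ 3 ^ 21 ∣ Nat.card D) {x₀ : D}
    (hx₀ : orderOf x₀ = 3) (hc : ∀ d, d * x₀ = x₀ * d) {y : D} (hy : y ^ 3 = 1) (hyr : y ∈ solvableRadical D) :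
    ∃ s : D, s * s = 1 ∧ s ≠ 1 ∧ s * y = y * s := by
  classical
  obtain ⟨e⟩ := h.suz
  have hX : IsSimpleGroup X := h.simple
  have hXc : Nat.card X = 448345497600 := h.card
  have hXf : Finite X := Finite.of_surjective φ h.surj
  have h2F : Fact (Nat.Prime 2) := ⟨Nat.prime_two⟩
  have h3F : Fact (Nat.Prime 3) := ⟨Nat.prime_three⟩
  have hz2 : z * z = 1 := h.z2
  have hz1 : z ≠ 1 := by
    intro h1
    have h2 := h.ord
    rw [h1, orderOf_one] at h2
    exact absurd h2 (by norm_num)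
  obtain ⟨N, F, hN, hNo, hsup, hNF, hFφ, hFs, hFk⟩ := exists_hom
    (fun K _ _ hK => Cfsg.Agent.S0205.result hK) h.ord h.iso hX (by rw [hXc]; decide) φ h.surj (ker_solvable h.ker)
  have hx3 : x₀ ^ 3 = 1 := by rw [← hx₀, pow_orderOf_eq_one]
  -- `F y = 1`
  have hFy : F y = 1 := by
    have h1 := Cfsg.Agent.H459.Rad.map_rad_le hFs hyr
    rw [Cfsg.Agent.H459.Rad.rad_eq_bot_of_simple (not_solvable h), mem_bot] at h1
    exact h1
  -- odd elements of `C_D(z)` in `N`
  have hNC : ∀ n ∈ N, n * z = z * n → n ∈ zpowers x₀ := by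
    intro n hn hnz
    have h1 : φ ⟨n, mem_centralizer_singleton_iff.2 hnz⟩ = 1 := by
      rw [← hFφ]; exact hNF hn
    have h2 : Odd (orderOf (⟨n, mem_centralizer_singleton_iff.2 hnz⟩ : ↥(centralizer ({z} : Set D)))) := by
      rw [Subgroup.orderOf_mk]
      exact hNo.of_dvd_nat (Subgroup.orderOf_dvd_natCard N hn)
    exact mem_zpowers_of_ker h h9 hx₀ hc h1 (cube_of_odd h h1 h2)
  -- the quotient by `⟨x₀⟩`
  have hZn : (zpowers x₀).Normal := ⟨fun k hk g => by
    obtain ⟨i, rfl⟩ := hk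
    have h1 : g * x₀ ^ i * g⁻¹ = x₀ ^ i := by
      have h2 : Commute g x₀ := hc g
      rw [(h2.zpow_right i).eq, mul_inv_cancel_right]
    show g * x₀ ^ i * g⁻¹ ∈ _
    rw [h1]
    exact zpow_mem (mem_zpowers x₀) i⟩
  let q : D →* D ⧸ zpowers x₀ := QuotientGroup.mk' (zpowers x₀)
  have hq : Function.Surjective q := QuotientGroup.mk'_surjective _
  have hq1 : ∀ d : D, q d = 1 ↔ d ∈ zpowers x₀ := fun d => QuotientGroup.eq_one_iff d
  have hfq : Finite (D ⧸ zpowers x₀) := Quotient.finite _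
  have hcardq : Nat.card (D ⧸ zpowers x₀) * 3 = Nat.card D := by
    have h1 := card_eq_card_quotient_mul_card_subgroup (zpowers x₀)
    rw [Nat.card_zpowers, hx₀] at h1
    exact h1.symm
  have hxz : ∀ i : ℤ, (x₀ ^ i) ^ 3 = 1 := by
    intro i
    rw [← zpow_natCast, ← zpow_mul, mul_comm, zpow_mul, zpow_natCast, hx3, one_zpow]
  have hx6 : ∀ i : ℤ, x₀ ^ i * x₀ ^ i = 1 → x₀ ^ i = 1 := by
    intro i hi
    have h1 := hxz i
    rw [pow_succ, pow_two, hi, one_mul] at h1
    exact h1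
  have hxc : ∀ (i : ℤ) (d : D), d * x₀ ^ i = x₀ ^ i * d := fun i d => ((show Commute d x₀ from hc d).zpow_right i).eq
  -- an involution commuting modulo `⟨x₀⟩` commutes
  have hlift : ∀ s : D, s * s = 1 → ∀ d : D, q s * q d = q d * q s → s * d = d * s := by
    intro s hs d hsd
    have hsi : s⁻¹ = s := inv_eq_of_mul_eq_one_left hs
    have h1 : q (s * d * s⁻¹ * d⁻¹) = 1 := by
      rw [map_mul, map_mul, map_mul, map_inv, map_inv, hsd]
      group
    obtain ⟨i, hi⟩ := (hq1 _).1 h1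
    have hi' : s * d * s⁻¹ = x₀ ^ i * d := by
      have : x₀ ^ i = s * d * s⁻¹ * d⁻¹ := hi
      rw [this]; group
    have h2 : d = x₀ ^ i * x₀ ^ i * d := by
      calc d = (s * s) * d * (s * s)⁻¹ := by rw [hs]; group
        _ = s * (s * d * s⁻¹) * s⁻¹ := by group
        _ = s * (x₀ ^ i * d) * s⁻¹ := by rw [hi']
        _ = (s * x₀ ^ i) * d * s⁻¹ := by group
        _ = x₀ ^ i * (s * d * s⁻¹) := by rw [hxc]; group
        _ = x₀ ^ i * x₀ ^ i * d := by rw [hi', mul_assoc]
    have h3 : x₀ ^ i * x₀ ^ i = 1 := mul_eq_right.1 h2.symm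
    rw [hx6 i h3, one_mul] at hi'
    exact mul_inv_eq_iff_eq_mul.1 hi'
  -- the image of `N`
  set Nb := N.map q with hNb
  have hNbn : Nb.Normal := hN.map q hq
  have hNbo : Odd (Nat.card ↥Nb) := hNo.of_dvd_nat (card_map_dvd N q)
  have hinv : (∀ v ∈ Nb, q z * v * (q z)⁻¹ = v⁻¹) ∧ Odd (Nat.card Nb) := by
    refine HNType.Simple.inv_of_cent (fun v hv => hNbn.conj_mem v hv (q z)) (by rw [← map_mul, hz2, map_one]) ?_
    rintro _ ⟨n, hn, rfl⟩ hv
    rw [hq1]
    exact hNC n hn (hlift z hz2 n hv).symm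
  have hNbc : ∀ a ∈ Nb, ∀ b ∈ Nb, a * b = b * a := by
    intro a ha b hb
    have h1 := hinv.1 (a * b) (mul_mem ha hb)
    have h2 : q z * (a * b) * (q z)⁻¹ = (q z * a * (q z)⁻¹) * (q z * b * (q z)⁻¹) := by group
    rw [h2, hinv.1 a ha, hinv.1 b hb, mul_inv_rev] at h1
    have h3 := congrArg (fun g => g⁻¹) h1
    simp only [mul_inv_rev, inv_inv] at h3
    exact h3.symm
  -- `q y ∈ Nb`
  have hyNb : q y ∈ Nb := by
    have h1 : y ∈ N ⊔ centralizer ({z} : Set D) := by rw [hsup]; trivial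
    obtain ⟨n, hn, c, hcC, rfl⟩ := mem_sup_of_normal_left.1 h1
    have h2 : φ ⟨c, hcC⟩ = 1 := by
      rw [← hFφ]
      have h3 : F (n * c) = F c := by rw [map_mul, MonoidHom.mem_ker.1 (hNF hn), one_mul]
      rw [h3] at hFy
      exact hFy
    -- `c ^ 3 ∈ N`
    have h3 : c ^ 3 ∈ N := by
      have h4 : (QuotientGroup.mk' N) (n * c) = (QuotientGroup.mk' N) c := by
        rw [map_mul, show QuotientGroup.mk' N n = 1 from (QuotientGroup.eq_one_iff _).2 hn, one_mul]
      have h5 : (QuotientGroup.mk' N) (c ^ 3) = 1 := by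
        rw [map_pow, ← h4, ← map_pow, hy, map_one]
      exact (QuotientGroup.eq_one_iff _).1 h5
    have h4 : (⟨c, hcC⟩ : ↥(centralizer ({z} : Set D))) ^ 3 = 1 := by
      have h5 : (⟨c, hcC⟩ : ↥(centralizer ({z} : Set D))) ^ 3 * (⟨c, hcC⟩ : ↥(centralizer ({z} : Set D))) ^ 3 = 1 := by
        rw [← pow_add]
        exact h.ker.six _ h2
      have h6 : φ ((⟨c, hcC⟩ : ↥(centralizer ({z} : Set D))) ^ 3) = 1 := by rw [map_pow, h2, one_pow]
      rcases h.ker.two _ h6 h5 with h7 | h7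
      · exact h7
      · exfalso
        have h8 : c ^ 3 = z := congrArg Subtype.val h7
        have h9 := Subgroup.orderOf_dvd_natCard N h3
        rw [h8, h.ord] at h9
        exact (Nat.not_even_iff_odd.2 hNo) (even_iff_two_dvd.2 h9)
    have h5 := mem_zpowers_of_ker h h9 hx₀ hc h2 h4
    rw [map_mul, (hq1 c).2 h5, mul_one]
    exact ⟨n, hn, rfl⟩
  by_cases hy1 : q y = 1
  · obtain ⟨i, hi⟩ := (hq1 y).1 hy1
    refine ⟨z, hz2, hz1, ?_⟩
    have hi' : x₀ ^ i = y := hi
    rw [← hi']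
    exact hxc i z
  -- the elementary abelian subgroup
  let S : Subgroup (D ⧸ zpowers x₀) :=
    { carrier := {v | v ∈ Nb ∧ v ^ 3 = 1}
      one_mem' := ⟨one_mem _, one_pow 3⟩
      mul_mem' := fun {a b} ha hb => ⟨mul_mem ha.1 hb.1, by
        rw [(show Commute a b from hNbc a ha.1 b hb.1).mul_pow, ha.2, hb.2, one_mul]⟩
      inv_mem' := fun {a} ha => ⟨inv_mem ha.1, by rw [inv_pow, ha.2, inv_one]⟩ }
  have hSle : S ≤ Nb := fun v hv => hv.1
  have hSp : IsPGroup 3 ↥S := fun v => ⟨1, Subtype.ext (by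
    have := v.2.2
    rw [pow_one]
    exact this)⟩
  obtain ⟨b, hb⟩ := IsPGroup.iff_card.1 hSp
  have hb12 : b ≤ 12 := by
    by_contra hcon
    apply hD
    have h1 : 3 ^ 13 ∣ Nat.card ↥Nb := (pow_dvd_pow 3 (by omega)).trans (hb ▸ card_dvd_of_le hSle)
    -- the quotient
    have h2 : Nat.card X ∣ Nb.index := by
      let Fb : D ⧸ zpowers x₀ →* X := QuotientGroup.lift (zpowers x₀) F (by
        rintro _ ⟨i, rfl⟩
        show F (x₀ ^ i) = 1
        rw [map_zpow]
        have h3 : F x₀ = 1 := by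
          have h4 := hFφ ⟨x₀, mem_centralizer_singleton_iff.2 (hc z).symm⟩
          rw [map_center h hc] at h4
          exact h4
        rw [h3, one_zpow])
      have hFbs : Function.Surjective Fb := by
        intro x
        obtain ⟨d, rfl⟩ := hFs x
        exact ⟨q d, rfl⟩
      have h3 : Nb ≤ Fb.ker := by
        rintro _ ⟨n, hn, rfl⟩
        exact hNF hn
      have h4 : Fb.ker.index = Nat.card X := by
        rw [index_ker, MonoidHom.range_eq_top.2 hFbs, card_top]
      rw [← h4]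
      exact index_dvd_of_le h3
    rw [← hcardq, ← Nb.card_mul_index]
    have h5 : 3 ^ 7 ∣ Nb.index := by
      refine Dvd.dvd.trans ?_ h2
      rw [hXc]; norm_num
    have h6 := Nat.mul_dvd_mul (Nat.mul_dvd_mul h1 h5) (dvd_refl 3)
    have h7 : (3 : ℕ) ^ 21 = 3 ^ 13 * 3 ^ 7 * 3 := by norm_num
    rw [h7]
    exact h6
  have hScard : Nat.card ↥S ≤ 3 ^ 12 := by
    rw [hb]; exact Nat.pow_le_pow_right (by norm_num) hb12
  have hyS : q y ∈ S := ⟨hyNb, by rw [← map_pow, hy, map_one]⟩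
  have hSn : ∀ v ∈ S, ∀ g, g * v * g⁻¹ ∈ S := fun v hv g =>
    ⟨hNbn.conj_mem v hv.1 g, by rw [conj_pow, hv.2, mul_one, mul_inv_cancel]⟩
  -- the number of conjugates
  have hconj : (centralizer ({q y} : Set (D ⧸ zpowers x₀))).index + 1 ≤ Nat.card ↥S := by
    rw [Cfsg.Agent.Blocks.ClassScalar.index_centralizer]
    let f : Option {x : D ⧸ zpowers x₀ // IsConj (q y) x} → ↥S := fun o =>
      match o with
      | none => 1
      | some x => ⟨x, by
          obtain ⟨g, hg⟩ := isConj_iff.1 x.2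
          rw [← hg]
          exact hSn _ hyS g⟩
    have hne : ∀ x : {x : D ⧸ zpowers x₀ // IsConj (q y) x}, (x : D ⧸ zpowers x₀) ≠ 1 := by
      rintro ⟨x, hx⟩ h1
      change x = 1 at h1
      rw [h1, isConj_one_left] at hx
      exact hy1 hx
    have hf : Function.Injective f := by
      rintro (_ | a) (_ | b) hab
      · rfl
      · exfalso
        exact hne b (congrArg Subtype.val hab).symm
      · exfalso
        exact hne a (congrArg Subtype.val hab)
      · congr 1
        exact Subtype.ext (congrArg (fun s : ↥S => (s : D ⧸ zpowers x₀)) hab)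
    have h1 := Nat.card_le_card_of_injective f hf
    rwa [Finite.card_option] at h1
  -- the stabilizer
  set T : Subgroup ↥(centralizer ({z} : Set D)) :=
    (centralizer ({q y} : Set (D ⧸ zpowers x₀))).comap (q.comp (centralizer ({z} : Set D)).subtype) with hT
  have hTi : T.index ≤ (centralizer ({q y} : Set (D ⧸ zpowers x₀))).index := by
    rw [hT, index_comap, ← relIndex_top_right (H := centralizer ({q y} : Set (D ⧸ zpowers x₀)))]
    exact relIndex_le_of_le_right le_top (by rw [relIndex_top_right]; exact index_ne_zero_of_finite)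
  have hTmem : ∀ c : ↥(centralizer ({z} : Set D)), c ∈ T → q c * q y = q y * q c := fun c hc =>
    mem_centralizer_singleton_iff.1 hc
  rcases Nat.even_or_odd (Nat.card ↥T) with hev | hodd
  · obtain ⟨s, hs⟩ := exists_prime_orderOf_dvd_card' (G := ↥T) 2 (even_iff_two_dvd.1 hev)
    have hs2 : s * s = 1 := by rw [← pow_two, ← hs, pow_orderOf_eq_one]
    have hs1 : s ≠ 1 := by
      intro h1
      rw [h1, orderOf_one] at hs
      exact absurd hs (by norm_num)
    have hss : (((s : ↥(centralizer ({z} : Set D))) : D)) * ((s : ↥(centralizer ({z} : Set D))) : D) = 1 :=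
      congrArg (fun t : ↥T => ((t : ↥(centralizer ({z} : Set D))) : D)) hs2
    exact ⟨_, hss, fun h1 => hs1 (Subtype.ext (Subtype.ext h1)), hlift _ hss y (hTmem _ s.2)⟩
  · exfalso
    let ψ : ↥T →* X := φ.comp T.subtype
    have hψ : Nat.card ↥T = Nat.card ↥ψ.range * Nat.card ↥ψ.ker := by
      rw [card_eq_card_quotient_mul_card_subgroup ψ.ker,
        Nat.card_congr (QuotientGroup.quotientKerEquivRange ψ).toEquiv]
    have hk : Nat.card ↥ψ.ker ≤ 3 := by
      have h1 : ∀ k : ↥ψ.ker, ((((k : ↥T) : ↥(centralizer ({z} : Set D))) : D)) ∈ zpowers x₀ := by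
        intro k
        have h2 : φ ((k : ↥T) : ↥(centralizer ({z} : Set D))) = 1 := k.2
        refine mem_zpowers_of_ker h h9 hx₀ hc h2 (cube_of_odd h h2 ?_)
        rw [Subgroup.orderOf_coe]
        exact hodd.of_dvd_nat (orderOf_dvd_natCard (k : ↥T))
      have h2 : Nat.card ↥ψ.ker ≤ Nat.card ↥(zpowers x₀) := by
        refine Nat.card_le_card_of_injective
          (fun k => (⟨((((k : ↥T) : ↥(centralizer ({z} : Set D))) : D)), h1 k⟩ : ↥(zpowers x₀))) ?_
        intro a b hab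
        exact Subtype.ext (Subtype.ext (Subtype.ext (congrArg (fun t : ↥(zpowers x₀) => (t : D)) hab)))
      rwa [Nat.card_zpowers, hx₀] at h2
    have hr : 33 * Nat.card ↥ψ.range ≤ 54729675 := by
      have h1 : Odd (Nat.card ↥ψ.range) := hodd.of_dvd_nat (by rw [hψ]; exact dvd_mul_right _ _)
      have h2 : Nat.card ↥(ψ.range.map e.toMonoidHom) = Nat.card ↥ψ.range := card_map_of_injective e.injective
      rw [← h2] at h1 ⊢
      exact SuzOdd.odd_bound h1
    have hC : Nat.card ↥(centralizer ({z} : Set D)) = 448345497600 * Nat.card ↥φ.ker := by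
      rw [card_eq_card_quotient_mul_card_subgroup φ.ker,
        Nat.card_congr (QuotientGroup.quotientKerEquivOfSurjective φ h.surj).toEquiv, hXc]
    have h6 : 6 ≤ Nat.card ↥φ.ker := by
      have h2 : 2 ∣ Nat.card ↥φ.ker := by
        have h3 : φ zA = 1 := by
          by_contra h4
          -- `φ z` is central
          have h5 : φ zA ∈ center X := by
            rw [mem_center_iff]
            intro x
            obtain ⟨c, rfl⟩ := h.surj x
            rw [← map_mul, ← map_mul]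
            congr 1
            exact Subtype.ext (mem_centralizer_singleton_iff.1 c.2)
          rcases (inferInstance : (center X).Normal).eq_bot_or_eq_top with h7 | h7
          · rw [h7, mem_bot] at h5
            exact h4 h5
          · refine not_solvable h (Group.isSolvable_of_comm fun a b => ?_)
            exact (mem_center_iff.1 (h7 ▸ mem_top b) a)
        let k : ↥φ.ker := ⟨zA, h3⟩
        have h4 := orderOf_dvd_natCard k
        have h5 : orderOf k = 2 := by
          rw [← Subgroup.orderOf_coe, ← Subgroup.orderOf_coe]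
          exact h.ord
        rwa [h5] at h4
      have h3 : 3 ∣ Nat.card ↥φ.ker := by
        let k : ↥φ.ker := ⟨⟨x₀, mem_centralizer_singleton_iff.2 (hc z).symm⟩, map_center h hc⟩
        have h4 := orderOf_dvd_natCard k
        have h5 : orderOf k = 3 := by
          rw [← Subgroup.orderOf_coe, ← Subgroup.orderOf_coe]
          exact hx₀
        rwa [h5] at h4
      have h4 : 0 < Nat.card ↥φ.ker := Nat.card_pos
      omega
    have hfin := T.card_mul_index
    rw [hC, hψ] at hfin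
    have hi : T.index ≤ 531440 := by omega
    have h7 : Nat.card ↥ψ.range * Nat.card ↥ψ.ker * T.index ≤ Nat.card ↥ψ.range * 3 * 531440 :=
      Nat.mul_le_mul (Nat.mul_le_mul_left _ hk) hi
    omega

end Cfsg.Agent.H345.MOrb
end

-- part: H345/IRowM
section
/-!
# The Monster, radical elements of order three (helper345, for S3854, S3832, S4336)

`irow_m : IsoM K → IRow K`.

`x` radical of order 3. A Sylow 3-subgroup of `M` lies in `D = C(x₀)`, `x₀` of order 3 and fixed rank 0 of `C(z)`; so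
`x ∈ D` up to conjugation and `x` lies in the solvable radical of `D`; by `MOrb.exists_inv` it commutes with an involution
`v`; but `O_3` of `C(v)` is trivial (`2^{1+24}.Co1` or `2.B`).
-/

set_option autoImplicit false

namespace Cfsg.Agent.H345.IRowM

open Subgroup Cfsg Cfsg.Agent.H749
open Cfsg.Agent.MonsterU Cfsg.Agent.LThree Cfsg.Agent.LThreeMB
open Cfsg.Agent.MonsterU.Ch
open Cfsg.Agent.MonsterU.Lam2 (L2 IsType)
open Cfsg.Agent.MonsterX.KSide Cfsg.Agent.MonsterX.KLift
open Cfsg.Spor (Co1)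
open Cfsg.Agent.H411.MThree (card_cent exists_lift_inv iso_of_rank exists_pow)
open Cfsg.Agent.H839.Rad (RadFree false_of_comm rc_conj mem_rad)
open Cfsg.Agent.H459.Rad Cfsg.Agent.H959.Rad3

universe u

local instance : Fact (Nat.Prime 3) := ⟨Nat.prime_three⟩

/-- a simple group of composite order is not solvable -/
theorem not_solvable {S : Type*} [Group S] [Finite S] [IsSimpleGroup S] (h : ¬ (Nat.card S).Prime) :
    ¬ Group.IsSolvable S := by
  intro hs
  have hc := IsSimpleGroup.comm_iff_isSolvable.2 hs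
  let _ : CommGroup S := { mul_comm := hc }
  exact h IsSimpleGroup.prime_card

theorem center_eq_bot {S : Type*} [Group S] [Finite S] [IsSimpleGroup S] (h : ¬ (Nat.card S).Prime) :
    center S = ⊥ := by
  rcases (inferInstance : (center S).Normal).eq_bot_or_eq_top with h1 | h1
  · exact h1
  · refine absurd (Group.isSolvable_of_comm fun a b => ?_) (not_solvable h)
    exact (mem_center_iff.1 (h1 ▸ mem_top b)) a

/-- a group with centre of order two and simple central quotient -/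
theorem radFree_cover {H K : Type*} [Group H] [Group K] [Finite H] [IsSimpleGroup K]
    (h2 : Nat.card (Subgroup.center H) = 2) (e : H ⧸ Subgroup.center H ≃* K) (hK : ¬ (Nat.card K).Prime) :
    RadFree 3 H := by
  have : Finite (H ⧸ Subgroup.center H) := Quotient.finite _
  have : Finite K := Finite.of_equiv _ e.toEquiv
  refine RadFree.of_surj Nat.prime_three (e.toMonoidHom.comp (QuotientGroup.mk' (Subgroup.center H)))
    (e.surjective.comp (QuotientGroup.mk'_surjective _)) ?_ (RadFree.of_simple (by norm_num) (not_solvable hK))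
  intro x hx ho
  have h1 : x ∈ center H := (QuotientGroup.eq_one_iff _).1 (e.map_eq_one_iff.1 hx)
  have h3 := Subgroup.orderOf_dvd_natCard (center H) h1
  rw [h2, ho] at h3
  norm_num at h3

section chart

variable {G : Type u} [Group G] {Q : Subgroup G} {z : G} {eta : G → L2}
  {pi : Subgroup.centralizer ({z} : Set G) →* Co1}

theorem radFree_z [Finite G] (h : Chart Q z eta pi) : RadFree 3 ↥(centralizer ({z} : Set G)) := by
  have hfin : Finite Co1 := Finite.of_surjective _ h.pi_surj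
  have hs : IsSimpleGroup Co1 := Cfsg.Agent.S0399.result.1
  have hns : ¬ Group.IsSolvable Co1 := not_solvable (by rw [Cfsg.Agent.S0399.result.2]; norm_num)
  refine RadFree.of_surj Nat.prime_three pi h.pi_surj ?_ (RadFree.of_simple (by norm_num) hns)
  intro x hx ho
  apply not_three_dvd h
  have h1 : (x : G) ∈ Q := (h.pi_eq_one x).1 hx
  have h2 := Subgroup.orderOf_dvd_natCard Q h1
  rwa [Subgroup.orderOf_coe, ho] at h2

/-- **A Sylow 3-subgroup in `C(x₀)`.** -/
theorem exists_x₀ [Finite G] [IsSimpleGroup G] (h : Chart Q z eta pi) (I : CoOne) (h0 : ClassOf 1) (ht : TrNe z pi)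
    (hpair : HasPair z pi)
    (hex : ∀ x : G, orderOf x = 3 → (∃ v : G, v * v = 1 ∧ v ≠ 1 ∧ v * x = x * v) →
      ∃ g : G, (g * z * g⁻¹) * x = x * (g * z * g⁻¹))
    (hcard : 3 ^ 20 ∣ Nat.card G) :
    ∃ x₀ : Subgroup.centralizer ({z} : Set G), orderOf x₀ = 3 ∧ fr (pi x₀) = 1 ∧
      ¬ 3 ∣ (centralizer ({(x₀ : G)} : Set G)).index := by
  -- the element of fixed rank 12
  obtain ⟨s, hs, hfs, -, -⟩ := I.psu
  obtain ⟨x, hx, hxs⟩ := KPair.exists_order_three h hs
  have hxF : Spor.IsoFi24' (XX (x : G)) := (iso_of_rank h I hx).2 (by rw [hxs]; exact hfs)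
  have hxo : orderOf (x : G) = 3 := by rw [Subgroup.orderOf_coe]; exact hx
  -- Sylow subgroups
  have hzx : IsPGroup 3 (zpowers (self (x : G))) := isPGroup_zpowers ⟨1, by
    rw [pow_one]
    exact Subtype.ext (by show (x : G) ^ 3 = 1; rw [← hxo, pow_orderOf_eq_one])⟩
  obtain ⟨T, hT⟩ := hzx.exists_le_sylow
  have hxT : self (x : G) ∈ (T : Subgroup _) := hT (mem_zpowers _)
  have hT' : IsPGroup 3 ((T : Subgroup ↥(centralizer ({(x : G)} : Set G))).map (centralizer ({(x : G)} : Set G)).subtype) :=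
    T.2.map _
  obtain ⟨S, hS⟩ := hT'.exists_le_sylow
  have hSnt : Nontrivial ↥(S : Subgroup G) := by
    refine ⟨⟨⟨(x : G), hS ⟨self (x : G), hxT, rfl⟩⟩, 1, ?_⟩⟩
    intro h1
    have h2 : (x : G) = 1 := congrArg Subtype.val h1
    rw [h2, orderOf_one] at hxo
    norm_num at hxo
  have hcnt : Nontrivial (center ↥(S : Subgroup G)) := S.2.center_nontrivial
  obtain ⟨d0, hd01⟩ := exists_ne (1 : center ↥(S : Subgroup G))
  have hd0S : ((d0 : ↥(S : Subgroup G)) : G) ∈ (S : Subgroup G) := (d0 : ↥(S : Subgroup G)).2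
  have hd0c : ∀ s ∈ (S : Subgroup G), s * ((d0 : ↥(S : Subgroup G)) : G) = ((d0 : ↥(S : Subgroup G)) : G) * s := by
    intro s hs
    exact congrArg Subtype.val (mem_center_iff.1 d0.2 ⟨s, hs⟩)
  obtain ⟨n, hn⟩ := exists_pow (PEl.of_isPGroup S.2 hd0S) (fun h1 => hd01 (Subtype.ext (Subtype.ext h1)))
  set d := ((d0 : ↥(S : Subgroup G)) : G) ^ n with hd
  have hdS : d ∈ (S : Subgroup G) := pow_mem hd0S n
  have hdc : ∀ s ∈ (S : Subgroup G), s * d = d * s := fun s hs =>
    ((show Commute ((d0 : ↥(S : Subgroup G)) : G) s from (hd0c s hs).symm).pow_left n).eq.symm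
  have hidx : ¬ 3 ∣ (centralizer ({d} : Set G)).index := by
    intro h1
    have h2 : (S : Subgroup G) ≤ centralizer ({d} : Set G) := fun s hs => mem_centralizer_singleton_iff.2 (hdc s hs)
    exact S.not_dvd_index (h1.trans (index_dvd_of_le h2))
  have hdcard : 3 ^ 20 ∣ Nat.card ↥(centralizer ({d} : Set G)) := by
    refine Nat.Coprime.dvd_of_dvd_mul_right (k := 3 ^ 20) (n := (centralizer ({d} : Set G)).index) ?_ ?_
    · exact Nat.Coprime.pow_left 20 ((Nat.Prime.coprime_iff_not_dvd Nat.prime_three).2 hidx)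
    · rw [Subgroup.card_mul_index]; exact hcard
  -- `d` commutes with an involution
  have hdx : d * (x : G) = x * d := (hdc _ (hS ⟨self (x : G), hxT, rfl⟩)).symm
  have hdinv : ∃ v : G, v * v = 1 ∧ v ≠ 1 ∧ v * d = d * v := by
    have hfX : Finite (XX (x : G)) := Quotient.finite _
    have h1 : ¬ 3 ∣ (centralizer ({mk (x : G) hdx} : Set (XX (x : G)))).index := by
      intro h2
      have h3 : (T : Subgroup ↥(centralizer ({(x : G)} : Set G))).map (QuotientGroup.mk' (Zx (x : G))) ≤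
          centralizer ({mk (x : G) hdx} : Set (XX (x : G))) := by
        rintro _ ⟨τ, hτ, rfl⟩
        rw [mem_centralizer_singleton_iff]
        have h4 : τ * ⟨d, mem_centralizer_singleton_iff.2 hdx⟩ = ⟨d, mem_centralizer_singleton_iff.2 hdx⟩ * τ :=
          Subtype.ext (hdc _ (hS ⟨τ, hτ, rfl⟩))
        exact congrArg (QuotientGroup.mk' (Zx (x : G))) h4
      exact (T.mapSurjective (QuotientGroup.mk'_surjective (Zx (x : G)))).not_dvd_index (h2.trans (index_dvd_of_le h3))
    obtain ⟨τ, h2, h3, h4⟩ := Cfsg.Agent.H411.FiCent.exists_inv_of_iso hxF h1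
    exact exists_lift_inv hxo hdx h2 h3 h4
  obtain ⟨g, hg⟩ := hex d hn hdinv
  -- a conjugate of `d` in `C(z)`
  have hd'z : (g⁻¹ * d * g) * z = z * (g⁻¹ * d * g) := by
    calc (g⁻¹ * d * g) * z = g⁻¹ * (d * (g * z * g⁻¹)) * g := by group
      _ = g⁻¹ * ((g * z * g⁻¹) * d) * g := by rw [hg]
      _ = z * (g⁻¹ * d * g) := by group
  let d' : centralizer ({z} : Set G) := ⟨g⁻¹ * d * g, mem_centralizer_singleton_iff.2 hd'z⟩
  have hgd : g * (d' : G) * g⁻¹ = d := by
    show g * (g⁻¹ * d * g) * g⁻¹ = d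
    group
  have hd' : orderOf d' = 3 := by
    rw [← Subgroup.orderOf_coe, ← hn, ← hgd]
    exact (orderOf_injective (MulAut.conj g).toMonoidHom (MulAut.conj g).injective (d' : G)).symm
  have hd'o : orderOf (d' : G) = 3 := by rw [Subgroup.orderOf_coe]; exact hd'
  have hd'card : 3 ^ 20 ∣ Nat.card ↥(centralizer ({(d' : G)} : Set G)) := by
    obtain ⟨⟨e⟩, -⟩ := exists_XX_equiv hgd
    rw [Nat.card_congr e.toEquiv]
    exact hdcard
  -- the pair
  obtain ⟨x₀, u, g₀, hx₀, hfr₀, huz, hux, hne, hg₀⟩ := hpair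
  have h812 : ∀ x : Subgroup.centralizer ({z} : Set G), orderOf x = 3 → (fr (pi x) = 2 ^ 8 ∨ fr (pi x) = 2 ^ 12) →
      IsSimpleGroup (XX (x : G)) ∧ Subgroup.center (XX (x : G)) ≠ ⊤ := fun x hx h2 =>
    ⟨(good_of_inputs h I hx h2).simple, (good_of_inputs h I hx h2).nc⟩
  have hconj : ∃ k : G, k * (d' : G) * k⁻¹ = x₀ := by
    rcases I.ranks (pi d') (orderOf_pi h hd') with h1 | h1 | h1 | h1
    · obtain ⟨c, hc⟩ := h0 (pi d') (pi x₀) (orderOf_pi h hd') (orderOf_pi h hx₀) h1 hfr₀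
      obtain ⟨k, hk⟩ := exists_conj_of_conj h (by rw [← hd', pow_orderOf_eq_one]) (by rw [← hx₀, pow_orderOf_eq_one]) hc
      exact ⟨k, congrArg Subtype.val hk⟩
    · exact conj_six h ht I.ranks I.six h812 hx₀ hfr₀ huz hux hne hg₀ hd' h1
    · exfalso
      obtain ⟨e⟩ := (iso_of_rank h I hd').1 h1
      have h2 := card_cent hd'o ((Nat.card_congr e.toEquiv).trans Cfsg.Agent.S1700.result.2)
      rw [h2] at hd'card
      revert hd'card
      norm_num
    · exfalso
      obtain ⟨e⟩ := (iso_of_rank h I hd').2 h1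
      have h2 := card_cent hd'o ((Nat.card_congr e.toEquiv).trans Cfsg.Agent.S1698.result.2)
      rw [h2] at hd'card
      revert hd'card
      norm_num
  obtain ⟨k, hk⟩ := hconj
  -- `d` and `x₀`
  have hkd : (k * g⁻¹) * d * (k * g⁻¹)⁻¹ = x₀ := by
    rw [← hk, ← hgd]; group
  refine ⟨x₀, hx₀, hfr₀, ?_⟩
  have h1 : (centralizer ({(x₀ : G)} : Set G)).index = (centralizer ({d} : Set G)).index := by
    obtain ⟨⟨e⟩, -⟩ := exists_XX_equiv hkd
    have h2 := Subgroup.card_mul_index (centralizer ({(x₀ : G)} : Set G))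
    have h3 := Subgroup.card_mul_index (centralizer ({d} : Set G))
    rw [Nat.card_congr e.toEquiv] at h3
    exact Nat.eq_of_mul_eq_mul_left Nat.card_pos (h2.trans h3.symm)
  rw [h1]
  exact hidx

end chart

section lift

variable {G : Type u} {V P W : Type*} [Group G] [AddCommGroup V] [Module ℚ V]
  [DistribMulAction G V] [SMulCommClass G ℚ V] [Group P] [AddCommGroup W] [Module ℚ W]
  {M : KS G V P W} {θ : leechLattice → P}

/-- **Radical elements of order three of the Monster.** -/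
theorem inn_of_lift [Finite G] [IsSimpleGroup G] (hna : center G = ⊥) (L : Lift M θ) (hc : KChart.Cent M) (I : CoOne)
    (h0 : ClassOf 1) (ht : TrNe M.z (KChart.pi hc)) (hpair : HasPair M.z (KChart.pi hc))
    (hex : ∀ x : G, orderOf x = 3 → (∃ v : G, v * v = 1 ∧ v ≠ 1 ∧ v * x = x * v) →
      ∃ g : G, (g * M.z * g⁻¹) * x = x * (g * M.z * g⁻¹))
    {t : G} (two : ∀ u : G, u * u = 1 → u ≠ 1 → (∃ g, g * M.z * g⁻¹ = u) ∨ ∃ g, g * t * g⁻¹ = u)
    (hcard : 3 ^ 20 ∣ Nat.card G) (hcard' : ¬ 3 ^ 21 ∣ Nat.card G)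
    (hB : RadFree 3 ↥(centralizer ({t} : Set G))) : IRowInn G := by
  intro x hxo hR _
  have h := KChart.chart L hc
  have hCz := radFree_z h
  -- the centralizers of all involutions
  have hinv : ∀ v : G, v * v = 1 → v ≠ 1 → RadFree 3 ↥(centralizer ({v} : Set G)) := by
    intro v hv hv1
    rcases two v hv hv1 with ⟨g, hg⟩ | ⟨g, hg⟩
    · obtain ⟨⟨e⟩, -⟩ := exists_XX_equiv hg
      exact hCz.congr Nat.prime_three e.symm
    · obtain ⟨⟨e⟩, -⟩ := exists_XX_equiv hg
      exact hB.congr Nat.prime_three e.symm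
  have hno : ∀ x : G, orderOf x = 3 → RC (MulAut.conj x) → ∀ v : G, v * v = 1 → v ≠ 1 → v * x = x * v → False := by
    intro x hxo hR v hv hv1 hvx
    refine false_of_comm hxo hR (t := v) ?_ hvx.symm (hinv v hv hv1)
    rw [hna, mem_bot]
    exact hv1
  obtain ⟨x₀, hx₀, hfr₀, hidx⟩ := exists_x₀ h I h0 ht hpair hex hcard
  have hx₀o : orderOf (x₀ : G) = 3 := by rw [Subgroup.orderOf_coe]; exact hx₀
  -- a conjugate of `x` in `C(x₀)`
  have hconj : ∃ g : G, g * x * g⁻¹ ∈ centralizer ({(x₀ : G)} : Set G) := by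
    set D := centralizer ({(x₀ : G)} : Set G) with hDdef
    obtain ⟨S⟩ : Nonempty (Sylow 3 D) := inferInstance
    have hS : IsPGroup 3 ↥((S : Subgroup D).map D.subtype) := S.isPGroup'.map _
    have hci : ¬ 3 ∣ ((S : Subgroup D).map D.subtype).index := by
      rw [← relIndex_mul_index (map_subtype_le (S : Subgroup D)), Nat.prime_three.dvd_mul, not_or]
      refine ⟨?_, hidx⟩
      have h1 : ((S : Subgroup D).map D.subtype).relIndex D = (S : Subgroup D).index := by
        rw [relIndex, subgroupOf, comap_map_eq_self_of_injective D.subtype_injective]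
      rw [h1]
      exact S.not_dvd_index
    let P' : Sylow 3 G := hS.toSylow hci
    have hx : IsPGroup 3 ↥(zpowers x) := IsPGroup.of_card (n := 1) (by rw [Nat.card_zpowers, hxo, pow_one])
    obtain ⟨P'', hP''⟩ := hx.exists_le_sylow
    obtain ⟨g, hg⟩ := MulAction.exists_smul_eq G P'' P'
    refine ⟨g, ?_⟩
    have h1 : g * x * g⁻¹ ∈ (P' : Subgroup G) := by
      rw [← hg, Sylow.coe_subgroup_smul]
      exact smul_mem_pointwise_smul x (MulAut.conj g) _ (hP'' (mem_zpowers x))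
    exact map_subtype_le (S : Subgroup D) h1
  obtain ⟨g, hg⟩ := hconj
  have hR' := rc_conj hR g
  have hxo' : orderOf (g * x * g⁻¹) = 3 := by
    rw [← hxo]
    exact orderOf_injective (MulAut.conj g).toMonoidHom (MulAut.conj g).injective x
  have hDat := Cfsg.Agent.BpSpor.MThree.dat_zero L hc ht hx₀ hfr₀ (I.suz _ (orderOf_pi h hx₀) hfr₀)
  have hne : centralizer ({(x₀ : G)} : Set G) ≠ ⊤ := by
    intro h1
    have h2 : (x₀ : G) ∈ center G := by
      rw [mem_center_iff]
      intro y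
      exact mem_centralizer_singleton_iff.1 (h1 ▸ mem_top y)
    rw [hna, mem_bot] at h2
    rw [h2, orderOf_one] at hx₀o
    norm_num at hx₀o
  have hrad := mem_rad hR' hne hg
  obtain ⟨s, hs2, hs1, hsy⟩ := MOrb.exists_inv hDat (Cfsg.Agent.BpSpor.BThree.not_nine h hx₀ hfr₀)
    (fun h1 => hcard' (h1.trans (card_subgroup_dvd_card _)))
    (x₀ := (⟨(x₀ : G), mem_centralizer_singleton_iff.2 rfl⟩ : ↥(centralizer ({(x₀ : G)} : Set G))))
    (by rw [Subgroup.orderOf_mk]; exact hx₀o)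
    (fun d => Subtype.ext (mem_centralizer_singleton_iff.1 d.2))
    (y := ⟨g * x * g⁻¹, hg⟩) (Subtype.ext (by
      show (g * x * g⁻¹) ^ 3 = 1
      rw [← hxo', pow_orderOf_eq_one])) hrad
  exact hno _ hxo' hR' s (congrArg Subtype.val hs2) (fun h1 => hs1 (Subtype.ext h1)) (congrArg Subtype.val hsy)

end lift

/-! ### The model -/

open Cfsg.Agent.MonsterX Cfsg.Agent.MonsterX.InstData Cfsg.Agent.MonsterX.MainPack
open Cfsg.Agent.MonsterP Cfsg.Agent.MonsterN
open Cfsg.Agent.MonsterX.MainBasic Cfsg.Agent.MonsterX.MainSimple Cfsg.Agent.MonsterX.Model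

theorem inn_model : IRowInn ↥InstData.M.G := by
  have := Row.finite_model
  have := Row.simple_model
  obtain ⟨⟨h1, -, ⟨e⟩⟩, -⟩ := ModelB.fieldsKS LitFin.all KDone.lnk KDone.lft (NodesGrp.prel LitFin.H)
    (NodesNe.ne LitFin.H) LitFin.conj_ten Cfsg.Agent.S1704.result KDone.lnk.x₀_mem
  obtain ⟨A, B, F⟩ := LThreeM.SigRow.facts_model
  have hBs : IsSimpleGroup Spor.BabyMonster := Cfsg.Agent.S1704.result.1
  refine inn_of_lift ?_ KDone.lft Row.cent CoOneFin.coOne LThreeCo1.Ranks.zero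
    (KPair.trNe KDone.lft Row.cent (LThreeMBTr.traceNe KDone.lft LThreeMBTr.TensK.tens))
    (KPair.hasPair KDone.lft Row.cent Row.second COct.octPair) ?_ (t := KDone.K.ι KLinkInst.x₀) ?_ ?_ ?_
    (radFree_cover h1 e (by rw [Cfsg.Agent.S1704.result.2]; norm_num))
  · exact center_eq_bot (by rw [F.card]; norm_num)
  · rintro x hx ⟨v, hv, hv1, hc⟩
    exact LThreeM.FiRow.exists_z_of_comm (by rw [← hx, pow_orderOf_eq_one]) hv hv1 hc.symm
  · intro u huu hu1
    rcases MFive.Row.two u huu hu1 with h | ⟨g, hg⟩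
    · exact Or.inl h
    · right
      obtain ⟨k, hk⟩ := ModelB.exists_conj_t KDone.mGroup KDone.mRep KDone.lnk KDone.lft KDone.lnk.x₀_mem
      refine ⟨g * k⁻¹, ?_⟩
      rw [← hk, ← hg]
      group
  · rw [F.card]
    norm_num
  · rw [F.card]
    norm_num

/-- **The Monster** -/
theorem irow_m {K : Type*} [Group K] [Finite K] [IsSimpleGroup K] (h : Cfsg.Spor.IsoM K) :
    Cfsg.Agent.H959.Rad3.IRow K := by
  have hfin := Row.finite_model
  have hsim := Row.simple_model
  obtain ⟨A, B, F⟩ := LThreeM.SigRow.facts_model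
  have hZ : center ↥InstData.M.G = ⊥ := center_eq_bot (by rw [F.card]; norm_num)
  obtain ⟨f⟩ := Cfsg.Agent.MonsterP.Equiv.equiv
  have hI : Cfsg.Spor.IsoM ↥InstData.M.G := ⟨f.symm⟩
  obtain ⟨e⟩ := h
  exact IRow.congr (e.trans f) (IRowInn.irow hZ
    (Cfsg.Agent.BpSpor.Inn.m hI 3 Nat.prime_three (by norm_num)) inn_model)

end Cfsg.Agent.H345.IRowM
end
end

-- part: H96/Wf/M
section
set_option linter.all false
open scoped Cfsg.Agent.FastGrp

-- part: H96/Wf/Hom
section
/-!
# S3826: rows from a proper subgroup with a simple quotient (helper96)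

`wfRow_of_hom` : all automorphisms of order `p` of `K` are inner, `D < K` is a proper subgroup with a homomorphism onto a
non-abelian simple group, and every element of order `p` of `K` has a conjugate in `D` which is not in the kernel.
-/

set_option autoImplicit false

namespace Cfsg.Agent.H96.Wf.Hom

open Subgroup Cfsg Cfsg.Agent.H533.T5 Cfsg.Agent.H533.Wf

universe u v w

variable {p : ℕ} [Fact p.Prime] {G : Type u} [Group G] [Finite G] {S : Subgroup G} {C D : Set G}

/-- elements of order `p` are in the socle -/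
theorem mem_socle (h : Cfg p S C D) (hin : ∀ α : MulAut S, orderOf α = p → ∃ k : S, α = MulAut.conj k) {c : G}
    (hc : orderOf c = p) : c ∈ S := by
  have hSn := h.normal
  let φ : G →* MulAut S := MulAut.conjNormal
  have hφ : Function.Injective φ := by
    rw [injective_iff_map_eq_one]
    intro g hg
    have h1 : g ∈ Subgroup.centralizer (S : Set G) := by
      rw [Subgroup.mem_centralizer_iff]
      intro s hs
      have h2 : (φ g) ⟨s, hs⟩ = ⟨s, hs⟩ := by rw [hg]; rfl
      have h3 : g * s * g⁻¹ = s := by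
        have := congrArg Subtype.val h2
        rwa [MulAut.conjNormal_apply] at this
      calc s * g = (g * s * g⁻¹) * g := by rw [h3]
        _ = g * s := by group
    rwa [h.cent, Subgroup.mem_bot] at h1
  obtain ⟨k, hk⟩ := hin (φ c) (by rw [orderOf_injective φ hφ]; exact hc)
  have h1 : c = k := by
    apply hφ
    rw [hk]
    exact (MulAut.conjNormal_val (h := k)).symm
  rw [h1]
  exact k.2

/-- the kill, `D` a subgroup of `G` -/
theorem false_of_hom {K : Type v} [Group K] (h : Cfg p S C D) (e : S ≃* K)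
    (hin : ∀ α : MulAut K, orderOf α = p → ∃ k : K, α = MulAut.conj k) {H : Subgroup K} (hH : H ≠ ⊤)
    {X : Type w} [Group X] (hX : IsSimpleGroup X) (hna : ¬ IsMulCommutative X) (F : H →* X)
    (hF : Function.Surjective F)
    (hx : ∀ x : K, orderOf x = p → ∃ (g : K) (hg : g * x * g⁻¹ ∈ H), F ⟨g * x * g⁻¹, hg⟩ ≠ 1) : False := by
  have hin' : ∀ α : MulAut S, orderOf α = p → ∃ k : S, α = MulAut.conj k := by
    intro α hα
    obtain ⟨k, hk⟩ := hin ((MulAut.congr e) α) (by rw [MulEquiv.orderOf_eq]; exact hα)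
    refine ⟨e.symm k, ?_⟩
    apply MulEquiv.ext
    intro x
    have h1 := congrArg (fun β : MulAut K => β (e x)) hk
    have h2 : e (α (e.symm (e x))) = k * e x * k⁻¹ := h1
    rw [e.symm_apply_apply] at h2
    apply e.injective
    rw [h2, MulAut.conj_apply, map_mul, map_mul, map_inv, e.apply_symm_apply]
  -- the subgroup of `G`
  let j : K →* G := S.subtype.comp e.symm.toMonoidHom
  have hj : Function.Injective j := fun a b hab => e.symm.injective (Subtype.ext hab)
  set H' : Subgroup G := H.map j with hH'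
  have hH'top : H' ≠ ⊤ := by
    intro ht
    apply hH
    rw [eq_top_iff]
    intro x _
    have h1 : j x ∈ H' := ht ▸ mem_top _
    obtain ⟨y, hy, hyx⟩ := h1
    rw [← hj hyx]
    exact hy
  let E : H ≃* H' := H.equivMapOfInjective j hj
  have hE : ∀ y : H, ((E y : H') : G) = j y := fun y => rfl
  let F' : H' →* X := F.comp E.symm.toMonoidHom
  have hF' : Function.Surjective F' := hF.comp E.symm.surjective
  let Y := H' ⧸ F'.ker
  let q : Y ≃* X := QuotientGroup.quotientKerEquivOfSurjective F' hF'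
  have hq : ∀ y : H', q (QuotientGroup.mk' F'.ker y) = F' y := fun y => rfl
  have hYs : IsSimpleGroup Y := (MulEquiv.isSimpleGroup_congr q).2 hX
  have hYt : IsSimpleGroup (⊤ : Subgroup Y) := (MulEquiv.isSimpleGroup_congr (topEquiv (G := Y))).2 hYs
  have hXc : ∀ x : X, (∀ y, y * x = x * y) → x = 1 := by
    intro x hx
    rcases (inferInstance : (center X).Normal).eq_bot_or_eq_top with h1 | h1
    · rw [← mem_bot, ← h1, mem_center_iff]
      exact hx
    · exfalso
      apply hna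
      exact ⟨⟨fun a b => mem_center_iff.1 (h1 ▸ mem_top b) a⟩⟩
  have hYna : ¬ IsMulCommutative (⊤ : Subgroup Y) := by
    intro hc
    apply hna
    refine ⟨⟨fun a b => ?_⟩⟩
    have h1 := hc.is_comm.comm (⟨q.symm a, mem_top _⟩ : (⊤ : Subgroup Y)) ⟨q.symm b, mem_top _⟩
    have h2 : q.symm a * q.symm b = q.symm b * q.symm a := congrArg Subtype.val h1
    apply q.symm.injective
    rw [map_mul, map_mul, h2]
  have hnc : ∀ y : H', F' y ≠ 1 → (QuotientGroup.mk' F'.ker) y ∉ centralizer ((⊤ : Subgroup Y) : Set Y) := by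
    intro y hy hcen
    apply hy
    apply hXc
    intro x
    obtain ⟨y', rfl⟩ := hF' x
    have h1 := mem_centralizer_iff.1 hcen (QuotientGroup.mk' F'.ker y') (mem_top _)
    have h2 := congrArg q h1
    rw [map_mul, map_mul, hq, hq] at h2
    exact h2
  -- the elements
  have key : ∀ c : G, orderOf c = p → ∃ (g : G) (hg : g * c * g⁻¹ ∈ H'), F' ⟨g * c * g⁻¹, hg⟩ ≠ 1 := by
    intro c hc
    have hcS := mem_socle h hin' hc
    have hco : orderOf (e ⟨c, hcS⟩) = p := by
      rw [MulEquiv.orderOf_eq, Subgroup.orderOf_mk]; exact hc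
    obtain ⟨g, hg, hgF⟩ := hx _ hco
    have h1 : j (g * e ⟨c, hcS⟩ * g⁻¹) = j g * c * (j g)⁻¹ := by
      rw [map_mul, map_mul, map_inv]
      congr 2
      show ((e.symm (e ⟨c, hcS⟩) : S) : G) = c
      rw [e.symm_apply_apply]
    have hm : j g * c * (j g)⁻¹ ∈ H' := ⟨_, hg, h1⟩
    refine ⟨j g, hm, ?_⟩
    have h2 : (⟨j g * c * (j g)⁻¹, hm⟩ : H') = E ⟨_, hg⟩ := Subtype.ext h1.symm
    rw [h2]
    show F (E.symm (E ⟨_, hg⟩)) ≠ 1
    rw [E.symm_apply_apply]
    exact hgF
  obtain ⟨c, hc⟩ := h.neC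
  obtain ⟨d, hd⟩ := h.neD
  obtain ⟨g, hg, hg1⟩ := key c (h.ordC c hc)
  obtain ⟨k, hk, hk1⟩ := key d (h.ordD d hd)
  exact h.false_of_hom hH'top (QuotientGroup.mk' F'.ker) (QuotientGroup.mk'_surjective _) (L := ⊤) inferInstance
    (QS.of_simple hYt hYna) (h.conjC g c hc) (h.conjD k d hd) hg hk (hnc _ hg1) (hnc _ hk1)

/-- **The row** -/
theorem wfRow_of_hom {K : Type v} [Group K]
    (hin : ∀ α : MulAut K, orderOf α = p → ∃ k : K, α = MulAut.conj k) {H : Subgroup K} (hH : H ≠ ⊤)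
    {X : Type w} [Group X] (hX : IsSimpleGroup X) (hna : ¬ IsMulCommutative X) (F : H →* X)
    (hF : Function.Surjective F)
    (hx : ∀ x : K, orderOf x = p → ∃ (g : K) (hg : g * x * g⁻¹ ∈ H), F ⟨g * x * g⁻¹, hg⟩ ≠ 1) :
    WfRow.{u, v} p K := by
  rintro G _ _ S C D h ⟨e⟩
  exact false_of_hom h e hin hH hX hna F hF hx

/-- a simple subgroup of index prime to `p` -/
theorem wfRow_of_simple {K : Type v} [Group K] [Finite K]
    (hin : ∀ α : MulAut K, orderOf α = p → ∃ k : K, α = MulAut.conj k) {H : Subgroup K} (hH : H ≠ ⊤)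
    (hidx : ¬ p ∣ H.index) (hs : IsSimpleGroup H) (hna : ¬ IsMulCommutative H) : WfRow.{u, v} p K := by
  refine wfRow_of_hom hin hH hs hna (MonoidHom.id H) Function.surjective_id ?_
  intro x hx
  obtain ⟨g, hg⟩ := exists_conj_mem_of_index hidx hx
  refine ⟨g, hg, ?_⟩
  intro h1
  have h2 : g * x * g⁻¹ = 1 := congrArg Subtype.val h1
  have h3 : x = 1 := by
    calc x = g⁻¹ * (g * x * g⁻¹) * g := by group
      _ = 1 := by rw [h2]; group
  rw [h3, orderOf_one] at hx
  exact (Fact.out : p.Prime).one_lt.ne hx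

end Cfsg.Agent.H96.Wf.Hom
end

-- part: H96/Wf/CoThree
section
/-!
# Elements of order three of `Co1` and the class of fixed rank 0 (helper96)

`exists_pair` : every element of order three of `Co1` has a conjugate which commutes with an element `ω` of order three
and fixed rank 0 and is not a power of `ω`.
-/

set_option autoImplicit false
set_option maxRecDepth 100000

namespace Cfsg.Agent.H96.Wf.CoThree

open Cfsg Cfsg.Agent.SporadicStructure.Co0Matrix Cfsg.Agent.CoOneType.CoEval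
open Cfsg.Agent.LThreeMB Cfsg.Agent.LThreeMB.Fix
open Cfsg.Agent.LThreeCo1.Ev Cfsg.Agent.LThreeCo1.Class Cfsg.Agent.LThreeCo1.Rel Cfsg.Agent.LThreeCo1.AGrp
open Cfsg.Agent.LThreeCo1.Ranks
open Cfsg.Spor (Co1)

theorem fr_eq_of_mem {ω y : Co1} (hω : orderOf ω = 3) (hy : orderOf y = 3) (h : y ∈ Subgroup.zpowers ω) :
    fr y = fr ω := by
  have hf : Finite ↥(Subgroup.zpowers ω) :=
    Nat.finite_of_card_ne_zero (by rw [Nat.card_zpowers, hω]; norm_num)
  have h0 : Subgroup.zpowers y = Subgroup.zpowers ω :=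
    Subgroup.eq_of_le_of_card_ge (Subgroup.zpowers_le.2 h) (by rw [Nat.card_zpowers, Nat.card_zpowers, hω, hy])
  unfold fr
  apply Nat.card_congr
  refine Equiv.subtypeEquivRight fun v => ?_
  rw [← MulAction.mem_stabilizer_iff, ← MulAction.mem_stabilizer_iff, ← Subgroup.zpowers_le, h0,
    Subgroup.zpowers_le]

theorem order_mk {g : Co0} (hg : orderOf g = 3) : orderOf (QuotientGroup.mk g : Co1) = 3 := by
  have : Fact (Nat.Prime 3) := ⟨Nat.prime_three⟩
  refine orderOf_eq_prime ?_ ?_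
  · rw [← QuotientGroup.mk_pow, ← hg, pow_orderOf_eq_one, QuotientGroup.mk_one]
  · intro h1
    have h2 : g ∈ Subgroup.center Co0 := (QuotientGroup.eq_one_iff g).1 h1
    have h3 := Subgroup.orderOf_dvd_natCard _ h2
    rw [Cfsg.Agent.S0398.result, hg] at h3
    norm_num at h3

theorem isConj_mk {g h : Co0} (hc : IsConj g h) : IsConj (QuotientGroup.mk g : Co1) (QuotientGroup.mk h) := by
  obtain ⟨x, rfl⟩ := isConj_iff.1 hc
  exact isConj_iff.2 ⟨QuotientGroup.mk x, rfl⟩

theorem comm_mk {g h : Co0} (hc : g * h = h * g) :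
    (QuotientGroup.mk g : Co1) * QuotientGroup.mk h = QuotientGroup.mk h * QuotientGroup.mk g := by
  have h1 := congrArg (fun x : Co0 => (QuotientGroup.mk x : Co1)) hc
  exact h1

theorem hA' (v w : V) : Ph a v * Ph a w = Ph a w * Ph a v := by
  rw [← hA.add, ← hA.add, add_comm]

theorem conj_576 : IsConj c0 (Ph a (vc 576)) := by
  have h8 := cj_vc k_8 1
  have h9 : ln (c 8) 1 = 576 := by decide
  rw [h9] at h8
  exact isConj_iff.2 ⟨e 8, h8⟩

theorem order_of_conj {g c : Co0} (h : IsConj g c) (hc : orderOf c = 3) : orderOf g = 3 := by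
  obtain ⟨x, hx⟩ := isConj_iff.1 h
  rw [← hc, ← hx]
  exact (orderOf_injective (MulAut.conj x).toMonoidHom (MulAut.conj x).injective g).symm

/-- the element of rank 8 commuting with `c0` -/
theorem conj_eight : IsConj (Ph a (vc 189) * e 7) c8 := by
  exact kpos k_14 w7 w29

theorem comm_seven : c0 * e 7 = e 7 * c0 := by
  have h := cj_vc k_7 1
  have h1 : ln (c 7) 1 = 1 := by decide
  rw [h1] at h
  exact (mul_inv_eq_iff_eq_mul.1 h).symm

/-- `Ph a (vc 576)` is not a power of `c0` modulo the centre -/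
theorem not_mem_576 : (QuotientGroup.mk (Ph a (vc 576)) : Co1) ∉ Subgroup.zpowers (QuotientGroup.mk c0 : Co1) := by
  have hω : orderOf (QuotientGroup.mk c0 : Co1) = 3 := order_mk order_c0
  intro hmem
  obtain ⟨i, hi⟩ := Subgroup.mem_zpowers_iff.1 hmem
  -- reduce the exponent modulo 3
  have h3 : ∃ n : ℕ, n < 3 ∧ (QuotientGroup.mk c0 : Co1) ^ i = (QuotientGroup.mk c0 : Co1) ^ n := by
    refine ⟨(i % 3).toNat, ?_, ?_⟩
    · have h4 := Int.emod_lt_of_pos i (show (0 : ℤ) < 3 by norm_num)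
      have h5 := Int.emod_nonneg i (show (3 : ℤ) ≠ 0 by norm_num)
      omega
    · have h5 := Int.emod_nonneg i (show (3 : ℤ) ≠ 0 by norm_num)
      rw [← zpow_natCast, Int.toNat_of_nonneg h5]
      have h6 := zpow_mod_orderOf (QuotientGroup.mk c0 : Co1) i
      rw [hω] at h6
      exact h6.symm
  obtain ⟨n, hn, hin⟩ := h3
  rw [hin] at hi
  have h4 : c0 ^ n = Ph a (vc ((![0, 1, 2] : Fin 3 → ℕ) ⟨n, hn⟩)) := by
    have hv0 : vc 0 = 0 := vc_zero
    have e0 : Ph a (vc 0) = 1 := by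
      rw [hv0]
      have h := hA.add 0 0
      rw [add_zero] at h
      exact (mul_eq_left.1 h.symm)
    have e2 : vc 2 = vc 1 + vc 1 := by decide +kernel
    interval_cases n
    · rw [pow_zero]; exact e0.symm
    · rw [pow_one]; rfl
    · rw [pow_two]
      show c0 * c0 = Ph a (vc 2)
      rw [e2, hA.add]
      rfl
  have h5 : (c0 ^ n)⁻¹ * Ph a (vc 576) ∈ Subgroup.center Co0 := by
    rw [← QuotientGroup.mk_pow] at hi
    exact QuotientGroup.eq.1 hi
  rw [h4, ← hA.neg, ← hA.add] at h5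
  have h6 := Subgroup.orderOf_dvd_natCard _ h5
  rw [Cfsg.Agent.S0398.result] at h6
  have h7 : orderOf (Ph a (-vc ((![0, 1, 2] : Fin 3 → ℕ) ⟨n, hn⟩) + vc 576)) ∣ 3 :=
    orderOf_dvd_of_pow_eq_one (hA.ph_cube _)
  have h8' := Nat.dvd_gcd h6 h7
  have h9' : orderOf (Ph a (-vc ((![0, 1, 2] : Fin 3 → ℕ) ⟨n, hn⟩) + vc 576)) = 1 := Nat.dvd_one.1 h8'
  have h10 := inj _ (orderOf_eq_one_iff.1 h9')
  have h11 : ∀ k : Fin 3, -vc ((![0, 1, 2] : Fin 3 → ℕ) k) + vc 576 ≠ 0 := by decide +kernel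
  exact h11 _ h10

/-- **Every element of order three of `Co1` commutes with another element of order three and fixed rank 0.** -/
theorem exists_pair (s : Co1) (hs : orderOf s = 3) :
    ∃ ω y : Co1, orderOf ω = 3 ∧ fr ω = 1 ∧ ω * y = y * ω ∧ y ∉ Subgroup.zpowers ω ∧ IsConj s y := by
  obtain ⟨d, hd, g, hg⟩ := classes hs
  have hsc : IsConj s (QuotientGroup.mk d) := isConj_iff.2 ⟨g, hg⟩
  have hω : orderOf (QuotientGroup.mk c0 : Co1) = 3 := order_mk order_c0
  -- the reduction for elements of other rank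
  have key : ∀ y : Co0, IsConj y d → orderOf d = 3 → c0 * y = y * c0 →
      fr (QuotientGroup.mk d : Co1) ≠ 1 →
      ∃ ω y : Co1, orderOf ω = 3 ∧ fr ω = 1 ∧ ω * y = y * ω ∧ y ∉ Subgroup.zpowers ω ∧ IsConj s y := by
    intro y hyd hd3 hcomm hfr
    have hyc := isConj_mk hyd
    refine ⟨QuotientGroup.mk c0, QuotientGroup.mk y, hω, fr_c0, comm_mk hcomm, ?_, hsc.trans hyc.symm⟩
    intro hmem
    apply hfr
    obtain ⟨x', hx'⟩ := isConj_iff.1 hyc
    rw [← hx', fr_conj, fr_eq_of_mem hω (order_mk (order_of_conj hyd hd3)) hmem, fr_c0]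
  rcases hd with rfl | rfl | rfl | rfl
  · -- another conjugate of `c0` in `A`
    refine ⟨QuotientGroup.mk c0, QuotientGroup.mk (Ph a (vc 576)), hω, fr_c0, comm_mk (hA' _ _), ?_,
      hsc.trans (isConj_mk conj_576)⟩
    exact not_mem_576
  · exact key c6 (IsConj.refl _) order_c6 (hA' _ _) (by rw [fr_c6]; norm_num)
  · refine key (Ph a (vc 189) * e 7) conj_eight order_c8 ?_ (by rw [fr_c8]; norm_num)
    rw [← mul_assoc, show c0 * Ph a (vc 189) = Ph a (vc 189) * c0 from hA' _ _, mul_assoc, comm_seven, mul_assoc]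
  · exact key c12 (IsConj.refl _) order_c12 (hA' _ _) (by rw [fr_c12]; norm_num)

end Cfsg.Agent.H96.Wf.CoThree
end

-- part: H96/Wf/M
section
/-!
# S3826: the Monster, `p = 3` (helper96)

`D = C(x₀) = 3^{1+12}.2.Suz` (index prime to 3). Every element `x` of order 3 has a conjugate in `D` which is not in the
solvable radical: otherwise `x` commutes with an involution (`MOrb.exists_inv`), hence with a conjugate of `z`, and in
`C(z)/Q = Co1` it has a conjugate commuting with `x₀` and not in `⟨x₀⟩` (`CoThree.exists_pair`).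
-/

set_option autoImplicit false
set_option linter.style.haveILetI false

namespace Cfsg.Agent.H96.Wf.M

open Subgroup Cfsg Cfsg.Agent.H749
open Cfsg.Agent.MonsterU Cfsg.Agent.LThree Cfsg.Agent.LThreeMB
open Cfsg.Agent.MonsterU.Ch
open Cfsg.Agent.MonsterU.Lam2 (L2 IsType)
open Cfsg.Agent.MonsterX.KSide Cfsg.Agent.MonsterX.KLift
open Cfsg.Spor (Co1)
open Cfsg.Agent.H459.Rad
open Cfsg.Agent.H345.IRowM
open Cfsg.Agent.BpSpor.MThree (Dat exists_hom ker_solvable)

universe u v

section chart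

variable {G : Type u} [Group G] {Q : Subgroup G} {z : G} {eta : G → L2}
  {pi : Subgroup.centralizer ({z} : Set G) →* Co1}

/-- an element of order three of `C(z)` has a conjugate in `C(z) ∩ C(x₀)` which is not in the kernel of the map to `Suz` -/
theorem exists_good [Finite G] (h : Chart Q z eta pi) (h0 : ClassOf 1) {x₀ : Subgroup.centralizer ({z} : Set G)}
    (hx₀ : orderOf x₀ = 3) (hfr : fr (pi x₀) = 1) {x : Subgroup.centralizer ({z} : Set G)} (hx : orderOf x = 3) :
    ∃ (g : G) (k : ↥(centralizer ({zD x₀} : Set ↥(centralizer ({(x₀ : G)} : Set G))))),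
      g * x * g⁻¹ = ((k : ↥(centralizer ({(x₀ : G)} : Set G))) : G) ∧ toXX pi x₀ k ≠ 1 := by
  have hx₀3 : x₀ ^ 3 = 1 := by rw [← hx₀, pow_orderOf_eq_one]
  have hx3 : x ^ 3 = 1 := by rw [← hx, pow_orderOf_eq_one]
  obtain ⟨ω, y, hω, hfω, hωy, hyω, hconj⟩ := CoThree.exists_pair (pi x) (orderOf_pi h hx)
  obtain ⟨k, hk⟩ := h0 ω (pi x₀) hω (orderOf_pi h hx₀) hfω hfr
  -- `y' = k y k⁻¹`
  have hy3 : y ^ 3 = 1 := by
    obtain ⟨m, hm⟩ := isConj_iff.1 hconj
    rw [← hm, conj_pow, ← map_pow, hx3, map_one, mul_one, mul_inv_cancel]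
  have hcomm : (k * y * k⁻¹) * pi x₀ = pi x₀ * (k * y * k⁻¹) := by
    rw [← hk]
    calc (k * y * k⁻¹) * (k * ω * k⁻¹) = k * (y * ω) * k⁻¹ := by group
      _ = k * (ω * y) * k⁻¹ := by rw [hωy]
      _ = _ := by group
  have hnot : k * y * k⁻¹ ∉ zpowers (pi x₀) := by
    intro hmem
    obtain ⟨i, hi⟩ := mem_zpowers_iff.1 hmem
    apply hyω
    rw [mem_zpowers_iff]
    refine ⟨i, ?_⟩
    rw [← hk, conj_zpow] at hi
    calc ω ^ i = k⁻¹ * (k * ω ^ i * k⁻¹) * k := by group
      _ = k⁻¹ * (k * y * k⁻¹) * k := by rw [hi]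
      _ = y := by group
  obtain ⟨c, hcx, hc⟩ := exists_lift h hx₀3 hcomm
  -- `c ^ 3 ∈ Q`
  have hc3 : pi (c ^ 3) = 1 := by rw [map_pow, hc, conj_pow, hy3, mul_one, mul_inv_cancel]
  have hcQ : ((c ^ 3 : Subgroup.centralizer ({z} : Set G)) : G) ∈ Q := (h.pi_eq_one _).1 hc3
  have h2 : IsPGroup 2 ↥Q := LargeExtra.Base.isPGroup h.large
  obtain ⟨n, hn⟩ := h2 ⟨_, hcQ⟩
  have hn' : (c ^ 3) ^ 2 ^ n = 1 :=
    Subtype.ext (show ((c ^ 3 : Subgroup.centralizer ({z} : Set G)) : G) ^ 2 ^ n = 1 from congrArg Subtype.val hn)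
  -- choose the exponent
  obtain ⟨m, hm⟩ : ∃ m, m * 2 ^ n % 3 = 1 := by
    have h4 : ∀ n : ℕ, (2 ^ n * 2 ^ n) % 3 = 1 := by
      intro n
      rw [← mul_pow]
      norm_num
      rw [Nat.pow_mod]
      norm_num
    exact ⟨2 ^ n, h4 n⟩
  set c' := c ^ (m * 2 ^ n) with hc'
  have hc'3 : c' ^ 3 = 1 := by
    rw [hc', ← pow_mul, show m * 2 ^ n * 3 = 3 * 2 ^ n * m by ring, pow_mul, pow_mul, hn', one_pow]
  have hpic' : pi c' = k * y * k⁻¹ := by
    rw [hc', map_pow, hc]
    have h5 : (k * y * k⁻¹) ^ 3 = 1 := by rw [conj_pow, hy3, mul_one, mul_inv_cancel]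
    conv_lhs => rw [← Nat.div_add_mod (m * 2 ^ n) 3, hm, pow_add, pow_mul, h5, one_pow, one_mul, pow_one]
  have hc'x : c' * x₀ = x₀ * c' := ((show Commute c x₀ from hcx).pow_left _).eq
  obtain ⟨s, hs⟩ : ∃ s : Co1, s * pi x * s⁻¹ = pi c' := by
    rw [hpic']
    have h6 : IsConj (pi x) (k * y * k⁻¹) := hconj.trans (isConj_iff.2 ⟨k, rfl⟩)
    exact isConj_iff.1 h6
  obtain ⟨d, hd⟩ := exists_conj_of_conj h hx3 hc'3 hs
  have hmem1 : ((c' : Subgroup.centralizer ({z} : Set G)) : G) ∈ centralizer ({(x₀ : G)} : Set G) :=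
    mem_centralizer_singleton_iff.2 (congrArg Subtype.val hc'x)
  have hmem2 : (⟨(c' : G), hmem1⟩ : ↥(centralizer ({(x₀ : G)} : Set G))) ∈
      centralizer ({zD x₀} : Set ↥(centralizer ({(x₀ : G)} : Set G))) :=
    mem_centralizer_singleton_iff.2 (Subtype.ext (mem_centralizer_singleton_iff.1 c'.2))
  refine ⟨d, ⟨⟨(c' : G), hmem1⟩, hmem2⟩, congrArg Subtype.val hd, ?_⟩
  intro h1
  apply hnot
  rw [← hpic']
  have h7 : be pi x₀ (toCC x₀ ⟨⟨(c' : G), hmem1⟩, hmem2⟩) ∈ Zx (pi x₀) := (QuotientGroup.eq_one_iff _).1 h1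
  obtain ⟨i, hi⟩ := mem_zpowers_iff.1 h7
  rw [mem_zpowers_iff]
  exact ⟨i, congrArg Subtype.val hi⟩

end chart

section lift

variable {G : Type u} {V P W : Type*} [Group G] [AddCommGroup V] [Module ℚ V]
  [DistribMulAction G V] [SMulCommClass G ℚ V] [Group P] [AddCommGroup W] [Module ℚ W]
  {M : KS G V P W} {θ : leechLattice → P}

theorem exists_of_lift [Finite G] [IsSimpleGroup G] (hna : center G = ⊥) (L : Lift M θ) (hc : KChart.Cent M) (I : CoOne)
    (h0 : ClassOf 1) (ht : TrNe M.z (KChart.pi hc)) (hpair : HasPair M.z (KChart.pi hc))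
    (hex : ∀ x : G, orderOf x = 3 → (∃ v : G, v * v = 1 ∧ v ≠ 1 ∧ v * x = x * v) →
      ∃ g : G, (g * M.z * g⁻¹) * x = x * (g * M.z * g⁻¹))
    (hcard : 3 ^ 20 ∣ Nat.card G) (hcard' : ¬ 3 ^ 21 ∣ Nat.card G) :
    ∃ (D : Subgroup G) (X : Type) (_ : Group X) (F : D →* X), D ≠ ⊤ ∧ IsSimpleGroup X ∧ ¬ IsMulCommutative X ∧
      Function.Surjective F ∧
      ∀ x : G, orderOf x = 3 → ∃ (g : G) (hg : g * x * g⁻¹ ∈ D), F ⟨g * x * g⁻¹, hg⟩ ≠ 1 := by
  haveI : Fact (Nat.Prime 3) := ⟨Nat.prime_three⟩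
  have h := KChart.chart L hc
  obtain ⟨x₀, hx₀, hfr₀, hidx⟩ := exists_x₀ h I h0 ht hpair hex hcard
  have hx₀o : orderOf (x₀ : G) = 3 := by rw [Subgroup.orderOf_coe]; exact hx₀
  have hDat := Cfsg.Agent.BpSpor.MThree.dat_zero L hc ht hx₀ hfr₀ (I.suz _ (orderOf_pi h hx₀) hfr₀)
  have hX : IsSimpleGroup (XX (KChart.pi hc x₀)) := hDat.simple
  have hXc : Nat.card (XX (KChart.pi hc x₀)) = 448345497600 := hDat.card
  obtain ⟨N, F, hN, hNo, hsup, hNF, hFφ, hFs, hFk⟩ := exists_hom
    (fun K _ _ hK => Cfsg.Agent.S0205.result hK) hDat.ord hDat.iso hX (by rw [hXc]; decide) (toXX (KChart.pi hc) x₀)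
    hDat.surj (ker_solvable hDat.ker)
  have hne : centralizer ({(x₀ : G)} : Set G) ≠ ⊤ := by
    intro h1
    have h2 : (x₀ : G) ∈ center G := by
      rw [mem_center_iff]
      intro y
      exact mem_centralizer_singleton_iff.1 (h1 ▸ mem_top y)
    rw [hna, mem_bot] at h2
    rw [h2, orderOf_one] at hx₀o
    norm_num at hx₀o
  refine ⟨centralizer ({(x₀ : G)} : Set G), XX (KChart.pi hc x₀), inferInstance, F, hne, hX, ?_, hFs, ?_⟩
  · intro hcm
    exact Cfsg.Agent.H345.MOrb.not_solvable hDat (Group.isSolvable_of_comm fun a b => hcm.is_comm.comm a b)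
  intro x hx
  obtain ⟨g, hg⟩ := Cfsg.Agent.H533.T5.exists_conj_mem_of_index hidx hx
  by_cases hF : F ⟨g * x * g⁻¹, hg⟩ = 1
  swap
  · exact ⟨g, hg, hF⟩
  have hx' : orderOf (g * x * g⁻¹) = 3 := by
    rw [← hx]
    exact orderOf_injective (MulAut.conj g).toMonoidHom (MulAut.conj g).injective x
  -- the element is in the solvable radical
  have hrad : (⟨g * x * g⁻¹, hg⟩ : ↥(centralizer ({(x₀ : G)} : Set G))) ∈
      solvableRadical ↥(centralizer ({(x₀ : G)} : Set G)) := by
    have h1 : F.ker ≤ solvableRadical ↥(centralizer ({(x₀ : G)} : Set G)) :=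
      le_sSup ⟨inferInstance, hFk⟩
    exact h1 hF
  obtain ⟨s, hs2, hs1, hsy⟩ := Cfsg.Agent.H345.MOrb.exists_inv hDat (Cfsg.Agent.BpSpor.BThree.not_nine h hx₀ hfr₀)
    (fun h1 => hcard' (h1.trans (card_subgroup_dvd_card _)))
    (x₀ := (⟨(x₀ : G), mem_centralizer_singleton_iff.2 rfl⟩ : ↥(centralizer ({(x₀ : G)} : Set G))))
    (by rw [Subgroup.orderOf_mk]; exact hx₀o)
    (fun d => Subtype.ext (mem_centralizer_singleton_iff.1 d.2))
    (y := ⟨g * x * g⁻¹, hg⟩) (Subtype.ext (by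
      show (g * x * g⁻¹) ^ 3 = 1
      rw [← hx', pow_orderOf_eq_one])) hrad
  obtain ⟨m, hm⟩ := hex _ hx' ⟨s, congrArg Subtype.val hs2, fun h1 => hs1 (Subtype.ext h1), congrArg Subtype.val hsy⟩
  -- a conjugate in `C(z)`
  set y : G := m⁻¹ * (g * x * g⁻¹) * m with hy
  have hyz : y * M.z = M.z * y := by
    calc y * M.z = m⁻¹ * ((g * x * g⁻¹) * (m * M.z * m⁻¹)) * m := by rw [hy]; group
      _ = m⁻¹ * ((m * M.z * m⁻¹) * (g * x * g⁻¹)) * m := by rw [hm]
      _ = M.z * y := by rw [hy]; group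
  have hyo : orderOf y = 3 := by
    rw [← hx', hy]
    have := orderOf_injective (MulAut.conj m⁻¹).toMonoidHom (MulAut.conj m⁻¹).injective (g * x * g⁻¹)
    rw [← this]
    congr 1
    show m⁻¹ * (g * x * g⁻¹) * m = m⁻¹ * (g * x * g⁻¹) * m⁻¹⁻¹
    rw [inv_inv]
  obtain ⟨n, k, hnk, hk⟩ := exists_good h h0 hx₀ hfr₀ (x := ⟨y, mem_centralizer_singleton_iff.2 hyz⟩)
    (by rw [Subgroup.orderOf_mk]; exact hyo)
  have hnk' : n * y * n⁻¹ = ((k : ↥(centralizer ({(x₀ : G)} : Set G))) : G) := hnk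
  have e1 : (n * m⁻¹ * g) * x * (n * m⁻¹ * g)⁻¹ = ((k : ↥(centralizer ({(x₀ : G)} : Set G))) : G) := by
    rw [← hnk', hy]; group
  refine ⟨n * m⁻¹ * g, by rw [e1]; exact (k : ↥(centralizer ({(x₀ : G)} : Set G))).2, ?_⟩
  have e2 : (⟨(n * m⁻¹ * g) * x * (n * m⁻¹ * g)⁻¹, by rw [e1]; exact (k : ↥(centralizer ({(x₀ : G)} : Set G))).2⟩ :
      ↥(centralizer ({(x₀ : G)} : Set G))) = k := Subtype.ext e1
  rw [e2, hFφ]
  exact hk

end lift

/-! ### The model -/

open Cfsg.Agent.MonsterX Cfsg.Agent.MonsterX.InstData Cfsg.Agent.MonsterX.MainPack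
open Cfsg.Agent.MonsterP Cfsg.Agent.MonsterN
open Cfsg.Agent.MonsterX.MainBasic Cfsg.Agent.MonsterX.MainSimple Cfsg.Agent.MonsterX.Model

theorem exists_model : ∃ (D : Subgroup ↥InstData.M.G) (X : Type) (_ : Group X) (F : D →* X), D ≠ ⊤ ∧ IsSimpleGroup X ∧
      ¬ IsMulCommutative X ∧ Function.Surjective F ∧
      ∀ x : ↥InstData.M.G, orderOf x = 3 → ∃ (g : ↥InstData.M.G) (hg : g * x * g⁻¹ ∈ D), F ⟨g * x * g⁻¹, hg⟩ ≠ 1 := by
  have := Row.finite_model
  have := Row.simple_model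
  obtain ⟨A, B, F⟩ := LThreeM.SigRow.facts_model
  refine exists_of_lift ?_ KDone.lft Row.cent CoOneFin.coOne LThreeCo1.Ranks.zero
    (KPair.trNe KDone.lft Row.cent (LThreeMBTr.traceNe KDone.lft LThreeMBTr.TensK.tens))
    (KPair.hasPair KDone.lft Row.cent Row.second COct.octPair) ?_ ?_ ?_
  · exact center_eq_bot (by rw [F.card]; norm_num)
  · rintro x hx ⟨v, hv, hv1, hc⟩
    exact LThreeM.FiRow.exists_z_of_comm (by rw [← hx, pow_orderOf_eq_one]) hv hv1 hc.symm
  · rw [F.card]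
    norm_num
  · rw [F.card]
    norm_num

open Cfsg.Agent.H533.Wf in
theorem wfRow_model : WfRow.{u, 0} 3 ↥InstData.M.G := by
  haveI : Fact (Nat.Prime 3) := ⟨Nat.prime_three⟩
  have := Row.finite_model
  obtain ⟨D, X, _, F, hD, hX, hna, hF, hx⟩ := exists_model
  obtain ⟨f⟩ := Cfsg.Agent.MonsterP.Equiv.equiv
  have hI : Cfsg.Spor.IsoM ↥InstData.M.G := ⟨f.symm⟩
  exact Hom.wfRow_of_hom (Cfsg.Agent.BpSpor.Inn.m hI 3 Nat.prime_three (by norm_num)) hD hX hna F hF hx

open Cfsg.Agent.H533.Wf in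
/-- **The Monster** -/
theorem wfRow_m {K : Type v} [Group K] (h : Cfsg.Spor.IsoM K) : WfRow.{u, v} 3 K := by
  rintro G _ _ S C D hCfg ⟨e'⟩
  obtain ⟨f⟩ := Cfsg.Agent.MonsterP.Equiv.equiv
  obtain ⟨e⟩ := h
  exact wfRow_model G S C D hCfg ⟨e'.trans (e.trans f)⟩

end Cfsg.Agent.H96.Wf.M
end
end
end
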